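import Groth.Agent.Sga7.H744.Stmts
import Groth.Agent.Sga7.H744.HcFun
import Groth.Agent.Sga7.H744.HcEq
import Groth.Agent.Sga7.H160.KummerSub
import Groth.Agent.Sga7.H30.PowAct

/-!
# (FIN) from the transfer (F4), the limit statement (F0) and the power statement (F1)

`fin_of : F0 → F1 → F4 → FinStmt`: a class on `C_Ω` whose mod `ℓ` Galois action is trivial comes from
`K(ϖ^{1/ℓ^s})`.
-/

set_option autoImplicit false
set_option backward.isDefEq.respectTransparency.types false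
universe u

open CategoryTheory CategoryTheory.Limits AlgebraicGeometry IsLocalRing
open scoped Groth.Agent.Etcore.EtInst

namespace Groth.Agent.Sga7.H540.FinAsm

open Groth.Agent.Sga7.H744.CohConst Groth.Agent.Sga7.H744.HcFun Groth.Agent.Sga7.H744.HcEq
open Groth.Agent.Etcore.EtInst Groth.Agent.Sga7.H744.Stmts

/-- (F4) transfer from `C_F` to `C_L` (`F / L` finite Galois) -/
def F4 : Prop := ∀ (K L F : Type u) [Field K] [Field L] [Field F] [Algebra K L] [Algebra K F] [Algebra L F]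
    [IsScalarTower K L F] [FiniteDimensional L F] [IsGalois L F] {C : Scheme.{u}} (f : C ⟶ Spec (CommRingCat.of K))
    (M : Type) [AddCommGroup M] (c : HH (SGA7.bcField F f) (EtCoh.const _ M) 1),
    ∃ a : HH (SGA7.bcField L f) (EtCoh.const _ M) 1,
      hc (pullback.map f (Spec.map (CommRingCat.ofHom (algebraMap K F))) f
          (Spec.map (CommRingCat.ofHom (algebraMap K L))) (𝟙 C)
          (Spec.map (CommRingCat.ofHom (algebraMap L F))) (𝟙 _) (by simp)
          (by rw [← Spec.map_comp, ← CommRingCat.ofHom_comp, ← IsScalarTower.algebraMap_eq]; simp)) M 1 a =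
        ∑ g : F ≃ₐ[L] F, hc (SGA7.twistAut F f (g.restrictScalars K)) M 1 c

/-- (F0) a class on `C_Ω` comes from a finite Galois extension of `K` in `Ω` -/
def F0 : Prop := ∀ (K Ω : Type u) [Field K] [Field Ω] [Algebra K Ω] [IsSepClosure K Ω]
    {C : Scheme.{u}} (f : C ⟶ Spec (CommRingCat.of K)) [QuasiCompact f] [QuasiSeparated f]
    (M : Type) [AddCommGroup M] (q : ℕ) (c : EtCoh.H (SGA7.bcField Ω f) (EtCoh.const _ M) q),
    ∃ F : IntermediateField K Ω, FiniteDimensional K F ∧ IsGalois K F ∧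
      ∃ c' : EtCoh.H (SGA7.bcField F f) (EtCoh.const _ M) q,
        Hc (pullback.map f (Spec.map (CommRingCat.ofHom (algebraMap K Ω))) f
          (Spec.map (CommRingCat.ofHom (algebraMap K F))) (𝟙 C)
          (Spec.map (CommRingCat.ofHom (algebraMap F Ω))) (𝟙 _) (by simp)
          (by rw [← Spec.map_comp]; rfl)) M q c' = c

/-- (F1) an endomorphism trivial on `H¹(Y, ℤ/ℓ)` has `ℓ`-power order on `H¹(Y, ℤ/ℓ^ν)` -/
def F1 : Prop := ∀ {Y : Scheme.{u}} (s : Y ⟶ Y) (ℓ : ℕ) (_ : ℓ.Prime)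
    (_ : Hc s (ZMod ℓ) 1 = AddMonoidHom.id _) (ν : ℕ),
    ∃ j : ℕ, ∀ x : EtCoh.H Y (EtCoh.const Y (ZMod (ℓ ^ ν))) 1,
      (⇑(Hc s (ZMod (ℓ ^ ν)) 1))^[ℓ ^ j] x = x

section Geometry

variable {K : Type u} [Field K] {C : Scheme.{u}} (f : C ⟶ Spec (CommRingCat.of K))

theorem twistAut_fst (L : Type u) [Field L] [Algebra K L] (S : L ≃ₐ[K] L) :
    SGA7.twistAut L f S ≫ pullback.fst f (Spec.map (CommRingCat.ofHom (algebraMap K L))) =
      pullback.fst f (Spec.map (CommRingCat.ofHom (algebraMap K L))) := by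
  rw [SGA7.twistAut, pullback.lift_fst, Category.comp_id]

theorem twistAut_snd (L : Type u) [Field L] [Algebra K L] (S : L ≃ₐ[K] L) :
    SGA7.twistAut L f S ≫ pullback.snd f (Spec.map (CommRingCat.ofHom (algebraMap K L))) =
      pullback.snd f (Spec.map (CommRingCat.ofHom (algebraMap K L))) ≫
        Spec.map (CommRingCat.ofHom (S : L →+* L)) := by
  rw [SGA7.twistAut, pullback.lift_snd]

theorem twistAut_one (L : Type u) [Field L] [Algebra K L] :
    SGA7.twistAut L f (1 : L ≃ₐ[K] L) = 𝟙 _ := by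
  apply pullback.hom_ext
  · rw [twistAut_fst, Category.id_comp]
  · rw [twistAut_snd, Category.id_comp]
    have h : CommRingCat.ofHom (((1 : L ≃ₐ[K] L) : L →+* L)) = 𝟙 (CommRingCat.of L) := by
      ext x
      rfl
    rw [h, Spec.map_id, Category.comp_id]

theorem twistAut_mul (L : Type u) [Field L] [Algebra K L] (S T : L ≃ₐ[K] L) :
    SGA7.twistAut L f (S * T) = SGA7.twistAut L f S ≫ SGA7.twistAut L f T := by
  apply pullback.hom_ext
  · rw [Category.assoc, twistAut_fst, twistAut_fst, twistAut_fst]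
  · rw [Category.assoc, twistAut_snd, twistAut_snd, ← Category.assoc, twistAut_snd, Category.assoc,
      ← Spec.map_comp, ← CommRingCat.ofHom_comp]
    congr 3

/-- The projection `C_{F'} ⟶ C_F` (`F ⟶ F'` an extension over `K`). -/
noncomputable def pr (F F' : Type u) [Field F] [Field F'] [Algebra K F] [Algebra K F']
    [Algebra F F'] [IsScalarTower K F F'] : SGA7.bcField F' f ⟶ SGA7.bcField F f :=
  pullback.map f (Spec.map (CommRingCat.ofHom (algebraMap K F'))) f
    (Spec.map (CommRingCat.ofHom (algebraMap K F))) (𝟙 C)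
    (Spec.map (CommRingCat.ofHom (algebraMap F F'))) (𝟙 _) (by simp)
    (by rw [← Spec.map_comp, ← CommRingCat.ofHom_comp, ← IsScalarTower.algebraMap_eq]; simp)

theorem pr_fst (F F' : Type u) [Field F] [Field F'] [Algebra K F] [Algebra K F']
    [Algebra F F'] [IsScalarTower K F F'] :
    pr f F F' ≫ pullback.fst f (Spec.map (CommRingCat.ofHom (algebraMap K F))) =
      pullback.fst f (Spec.map (CommRingCat.ofHom (algebraMap K F'))) := by
  rw [pr, pullback.lift_fst, Category.comp_id]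

theorem pr_snd (F F' : Type u) [Field F] [Field F'] [Algebra K F] [Algebra K F']
    [Algebra F F'] [IsScalarTower K F F'] :
    pr f F F' ≫ pullback.snd f (Spec.map (CommRingCat.ofHom (algebraMap K F))) =
      pullback.snd f (Spec.map (CommRingCat.ofHom (algebraMap K F'))) ≫
        Spec.map (CommRingCat.ofHom (algebraMap F F')) := by
  rw [pr, pullback.lift_snd]

theorem pr_pr (F F' F'' : Type u) [Field F] [Field F'] [Field F''] [Algebra K F] [Algebra K F']
    [Algebra K F''] [Algebra F F'] [Algebra F' F''] [Algebra F F''] [IsScalarTower K F F']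
    [IsScalarTower K F' F''] [IsScalarTower K F F''] [IsScalarTower F F' F''] :
    pr f F' F'' ≫ pr f F F' = pr f F F'' := by
  apply pullback.hom_ext
  · rw [Category.assoc, pr_fst, pr_fst, pr_fst]
  · rw [Category.assoc, pr_snd, pr_snd, ← Category.assoc, pr_snd, Category.assoc, ← Spec.map_comp,
      ← CommRingCat.ofHom_comp, ← IsScalarTower.algebraMap_eq]

theorem twistAut_pr (F F' : Type u) [Field F] [Field F'] [Algebra K F] [Algebra K F']
    [Algebra F F'] [IsScalarTower K F F'] (σ : F' ≃ₐ[K] F') (S : F ≃ₐ[K] F)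
    (h : ∀ x : F, σ (algebraMap F F' x) = algebraMap F F' (S x)) :
    SGA7.twistAut F' f σ ≫ pr f F F' = pr f F F' ≫ SGA7.twistAut F f S := by
  apply pullback.hom_ext
  · rw [Category.assoc, Category.assoc, twistAut_fst, pr_fst, twistAut_fst]
  · rw [Category.assoc, Category.assoc, twistAut_snd, pr_snd, ← Category.assoc, twistAut_snd,
      ← Category.assoc, pr_snd, Category.assoc, Category.assoc, ← Spec.map_comp, ← Spec.map_comp,
      ← CommRingCat.ofHom_comp, ← CommRingCat.ofHom_comp]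
    congr 3
    ext x
    exact h x

end Geometry

section Cohomology

variable {K : Type u} [Field K] {C : Scheme.{u}} (f : C ⟶ Spec (CommRingCat.of K))

theorem iterate_twist (L : Type u) [Field L] [Algebra K L] (S : L ≃ₐ[K] L) (M : Type)
    [AddCommGroup M] (q : ℕ) (n : ℕ) (x : HH (SGA7.bcField L f) (EtCoh.const _ M) q) :
    (⇑(hc (SGA7.twistAut L f S) M q))^[n] x = hc (SGA7.twistAut L f (S ^ n)) M q x := by
  induction n with
  | zero =>
    rw [pow_zero, twistAut_one, hc_id]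
    rfl
  | succ n ih =>
    rw [Function.iterate_succ_apply', ih, pow_succ', twistAut_mul, hc_comp]

theorem iterate_pr (F F' : Type u) [Field F] [Field F'] [Algebra K F] [Algebra K F']
    [Algebra F F'] [IsScalarTower K F F'] (σ : F' ≃ₐ[K] F') (S : F ≃ₐ[K] F)
    (h : ∀ x : F, σ (algebraMap F F' x) = algebraMap F F' (S x)) (M : Type)
    [AddCommGroup M] (q : ℕ) (n : ℕ) (x : HH (SGA7.bcField F f) (EtCoh.const _ M) q) :
    (⇑(hc (SGA7.twistAut F' f σ) M q))^[n] (hc (pr f F F') M q x) =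
      hc (pr f F F') M q ((⇑(hc (SGA7.twistAut F f S) M q))^[n] x) := by
  induction n with
  | zero => rfl
  | succ n ih =>
    rw [Function.iterate_succ_apply', ih, Function.iterate_succ_apply',
      hc_comp' (twistAut_pr f F F' σ S h), hc_comp]

/-- The iterates of `Hc` and `hc` agree. -/
theorem iterate_Hc_eq {Y : Scheme.{u}} (s : Y ⟶ Y) (M : Type) [AddCommGroup M] (q n : ℕ)
    (x : HH Y (EtCoh.const Y M) q) :
    @Eq (HH Y (EtCoh.const Y M) q) ((⇑(Hc s M q))^[n] x) ((⇑(hc s M q))^[n] x) := by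
  induction n with
  | zero => rfl
  | succ n ih =>
    have h1 : (⇑(Hc s M q))^[n + 1] x = Hc s M q ((⇑(Hc s M q))^[n] x) :=
      Function.iterate_succ_apply' _ _ _
    have h2 : (⇑(hc s M q))^[n + 1] x = hc s M q ((⇑(hc s M q))^[n] x) :=
      Function.iterate_succ_apply' _ _ _
    exact h1.trans ((Hc_apply s M q _).trans ((congrArg (fun y => hc s M q y) ih).trans h2.symm))

theorem pr_twist_eq {Ω : Type u} [Field Ω] [Algebra K Ω] [Normal K Ω] (F : IntermediateField K Ω)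
    [Normal K F] (S : F ≃ₐ[K] F) (M : Type) [AddCommGroup M] (q : ℕ)
    (x : HH (SGA7.bcField F f) (EtCoh.const _ M) q) {ℓ d : ℕ} (hℓ : ℓ.Prime) (hd : ¬ ℓ ∣ d)
    (hS : S ^ d = 1)
    (hm : ∀ σ : Ω ≃ₐ[K] Ω, ∃ j : ℕ, ∀ z : HH (SGA7.bcField Ω f) (EtCoh.const _ M) q,
      (⇑(hc (SGA7.twistAut Ω f σ) M q))^[ℓ ^ j] z = z) :
    hc (pr f F Ω) M q (hc (SGA7.twistAut F f S) M q x) = hc (pr f F Ω) M q x := by
  obtain ⟨σ, hσ⟩ := AlgEquiv.restrictNormalHom_surjective (F := K) (K₁ := F) Ω S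
  have h : ∀ x : F, σ (algebraMap F Ω x) = algebraMap F Ω (S x) := fun x => by
    rw [← hσ]
    exact (AlgEquiv.restrictNormal_commutes σ F x).symm
  obtain ⟨j, hj⟩ := hm σ
  have h1 : Function.IsPeriodicPt (⇑(hc (SGA7.twistAut Ω f σ) M q)) d (hc (pr f F Ω) M q x) := by
    change (⇑(hc (SGA7.twistAut Ω f σ) M q))^[d] (hc (pr f F Ω) M q x) = hc (pr f F Ω) M q x
    rw [iterate_pr f F Ω σ S h, iterate_twist, hS, twistAut_one, hc_id]
  have h2 : Function.IsPeriodicPt (⇑(hc (SGA7.twistAut Ω f σ) M q)) (ℓ ^ j) (hc (pr f F Ω) M q x) :=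
    hj _
  have h3 := h1.gcd h2
  rw [Nat.Coprime.gcd_eq_one (((hℓ.coprime_iff_not_dvd.2 hd).symm).pow_right j)] at h3
  have h4 : hc (SGA7.twistAut Ω f σ) M q (hc (pr f F Ω) M q x) = hc (pr f F Ω) M q x := h3
  rw [← hc_comp, ← twistAut_pr f F Ω σ S h, hc_comp]
  exact h4

end Cohomology

theorem hc_eq_of_Hc_eq {X Y : Scheme.{u}} (g : X ⟶ Y) (M : Type) [AddCommGroup M] (q : ℕ)
    (x : HH Y (EtCoh.const Y M) q) (z : HH X (EtCoh.const X M) q)
    (h : Hc g M q x = z) : z = hc g M q x := h.symm.trans (Hc_apply g M q x)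

theorem Hc_eq_of_hc_eq {X Y : Scheme.{u}} (g : X ⟶ Y) (M : Type) [AddCommGroup M] (q : ℕ)
    (x : HH Y (EtCoh.const Y M) q) (z : HH X (EtCoh.const X M) q)
    (h : hc g M q x = z) : Hc g M q x = z := (Hc_apply g M q x).trans h

theorem iterate_hc_fixed {Y : Scheme.{u}} (s : Y ⟶ Y) (M : Type) [AddCommGroup M] (q n : ℕ)
    (h : ∀ x : EtCoh.H Y (EtCoh.const Y M) q, (⇑(Hc s M q))^[n] x = x)
    (x : HH Y (EtCoh.const Y M) q) : (⇑(hc s M q))^[n] x = x :=
  (iterate_Hc_eq s M q n x).symm.trans (h x)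

/-- division by `d` prime to `m` in a group killed by `m`. -/
theorem exists_of_nsmul {A B : Type*} [AddCommGroup A] [AddCommGroup B] (φ : A →+ B) (a : A) (b : B)
    {d m : ℕ} (hcop : d.Coprime m) (hd : φ a = d • b) (hm : m • b = 0) : ∃ a' : A, φ a' = b := by
  obtain ⟨u, v, huv⟩ := Nat.isCoprime_iff_coprime.2 hcop
  refine ⟨u • a, ?_⟩
  calc φ (u • a) = (u * (d : ℤ) + v * (m : ℤ)) • b := by
          rw [map_zsmul, hd, add_smul, mul_smul, mul_smul, natCast_zsmul, natCast_zsmul, hm,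
            smul_zero, add_zero]
      _ = _ := by rw [huv, one_smul]

theorem restrictScalars_pow (K : Type u) {L F : Type u} [Field K] [Field L] [Field F] [Algebra K L]
    [Algebra K F] [Algebra L F] [IsScalarTower K L F] (g : F ≃ₐ[L] F) (n : ℕ) :
    g.restrictScalars K ^ n = (g ^ n).restrictScalars K := by
  induction n with
  | zero => rfl
  | succ n ih => rw [pow_succ, ih, pow_succ]; rfl

theorem exists_class {K Ω : Type u} [Field K] [Field Ω] [Algebra K Ω] [Normal K Ω]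
    {C : Scheme.{u}} (f : C ⟶ Spec (CommRingCat.of K)) {ℓ d ν : ℕ} (hℓ : ℓ.Prime) (hd : ¬ ℓ ∣ d)
    (F L : IntermediateField K Ω) [Normal K F] [Algebra L F] [IsScalarTower K L F]
    [IsScalarTower L F Ω] [FiniteDimensional L F] [IsGalois L F]
    (hcard : Nat.card (F ≃ₐ[L] F) = d)
    (cF : HH (SGA7.bcField F f) (EtCoh.const _ (ZMod (ℓ ^ ν))) 1)
    (hm : ∀ σ : Ω ≃ₐ[K] Ω, ∃ j : ℕ, ∀ z : HH (SGA7.bcField Ω f) (EtCoh.const _ (ZMod (ℓ ^ ν))) 1,
      (⇑(hc (SGA7.twistAut Ω f σ) (ZMod (ℓ ^ ν)) 1))^[ℓ ^ j] z = z)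
    (a : HH (SGA7.bcField L f) (EtCoh.const _ (ZMod (ℓ ^ ν))) 1)
    (ha : hc (pr f L F) (ZMod (ℓ ^ ν)) 1 a =
      ∑ g : F ≃ₐ[L] F, hc (SGA7.twistAut F f (g.restrictScalars K)) (ZMod (ℓ ^ ν)) 1 cF) :
    ∃ c' : HH (SGA7.bcField L f) (EtCoh.const _ (ZMod (ℓ ^ ν))) 1,
      hc (pr f L Ω) (ZMod (ℓ ^ ν)) 1 c' = hc (pr f F Ω) (ZMod (ℓ ^ ν)) 1 cF := by
  refine exists_of_nsmul (hc (pr f L Ω) (ZMod (ℓ ^ ν)) 1) a _
    (((hℓ.coprime_iff_not_dvd.2 hd).symm).pow_right ν) ?_
    (Groth.Agent.Sga7.H30.PowAct.nsmul_eq_zero (fun m => ?_) 1 _)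
  · rw [← hc_comp' (pr_pr f L F Ω)]
    have hg : ∀ g : F ≃ₐ[L] F,
        hc (pr f F Ω) (ZMod (ℓ ^ ν)) 1
          (hc (SGA7.twistAut F f (g.restrictScalars K)) (ZMod (ℓ ^ ν)) 1 cF) =
        hc (pr f F Ω) (ZMod (ℓ ^ ν)) 1 cF := by
      intro g
      refine pr_twist_eq f F (g.restrictScalars K) _ 1 cF hℓ hd ?_ hm
      rw [restrictScalars_pow, ← hcard, pow_card_eq_one']
      rfl
    rw [ha, map_sum, Finset.sum_congr rfl fun g _ => hg g, Finset.sum_const,
      Finset.card_univ, ← Nat.card_eq_fintype_card, hcard]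
  · rw [nsmul_eq_mul, ZMod.natCast_self, zero_mul]

/-- **(FIN)** from (F0), (F1), (F4). -/
theorem fin_of (h0 : F0.{u}) (h1 : F1.{u}) (h4 : F4.{u}) : FinStmt.{u} := by
  intro R K Ω _ _ _ _ _ _ _ _ _ _ _ ℓ hℓ hℓp C f _ _ htriv ϖ hϖ ν c
  obtain ⟨F, hF, hFG, cF, hcF⟩ := h0 K Ω f (ZMod (ℓ ^ ν)) 1 c
  obtain ⟨s, y, hy, hyF, d, hd, hrk⟩ :=
    Groth.Agent.Sga7.H160.KummerSub.exists_kummer_sub R K Ω ℓ hℓ hℓp ϖ hϖ F
  refine ⟨s, y, hy, ?_⟩
  have hle : IntermediateField.adjoin K {y} ≤ F := IntermediateField.adjoin_simple_le_iff.2 hyF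
  let i1 : Algebra (IntermediateField.adjoin K {y}) F :=
    (IntermediateField.inclusion hle).toRingHom.toAlgebra
  have i2 : IsScalarTower K (IntermediateField.adjoin K {y}) F :=
    IsScalarTower.of_algebraMap_eq fun x => rfl
  have i3 : IsScalarTower (IntermediateField.adjoin K {y}) F Ω :=
    IsScalarTower.of_algebraMap_eq fun x => rfl
  have i4 : FiniteDimensional (IntermediateField.adjoin K {y}) F :=
    FiniteDimensional.right K (IntermediateField.adjoin K {y}) F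
  have i5 : IsGalois (IntermediateField.adjoin K {y}) F :=
    IsGalois.tower_top_of_isGalois K (IntermediateField.adjoin K {y}) F
  have i6 : IsGalois K Ω := inferInstance
  have hcard : Nat.card (F ≃ₐ[IntermediateField.adjoin K {y}] F) = d := by
    rw [IsGalois.card_aut_eq_finrank]
    have h := Module.finrank_mul_finrank K (IntermediateField.adjoin K {y}) F
    rw [hrk] at h
    refine Nat.eq_of_mul_eq_mul_left ?_ h
    exact Nat.pos_of_ne_zero fun h0 => by
      rw [h0, zero_mul] at hrk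
      exact Module.finrank_pos.ne' hrk
  obtain ⟨a, ha⟩ := h4 K (IntermediateField.adjoin K {y}) F f (ZMod (ℓ ^ ν)) cF
  obtain ⟨c', hc'⟩ := exists_class f hℓ hd F (IntermediateField.adjoin K {y}) hcard cF
    (fun σ => by
      obtain ⟨j, hj⟩ := h1 (SGA7.twistAut Ω f σ) ℓ hℓ (htriv σ) ν
      exact ⟨j, iterate_hc_fixed _ _ 1 _ hj⟩) a ha
  exact ⟨c', Hc_eq_of_hc_eq _ _ 1 c' c (hc'.trans (hc_eq_of_Hc_eq _ _ 1 cF c hcF).symm)⟩

/-- (F1) is proved: `H30.PowAct.exists_iterate_eq`. -/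
theorem f1 : F1.{u} := by
  intro Y s ℓ hℓ h ν
  exact Groth.Agent.Sga7.H30.PowAct.exists_iterate_eq s ℓ hℓ.ne_zero 1 h ν

/-- **(FIN)** from (F0) and (F4). -/
theorem fin_of' (h0 : F0.{u}) (h4 : F4.{u}) : FinStmt.{u} := fin_of h0 f1 h4

end Groth.Agent.Sga7.H540.FinAsm
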